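/-
Groups in which the centraliser of every involution has a normal 2-complement: the centralisers, and normal
four-subgroups of 2-groups of rank at least three.
-/
import Cfsg.Agent.BenderSE.Dependents.FourConnected
import Cfsg.Agent.PGroups.NormalFour
import Cfsg.Agent.Transfer.Basic
import Cfsg.Agent.Components.Misc.SolvBalance
import Cfsg.Agent.OddChar.PF.OddOrder

set_option autoImplicit false
set_option linter.unusedSectionVars false
set_option linter.style.haveILetI false

namespace Cfsg.Lib.TwoNilCent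

open Subgroup Cfsg.Lib.Components Cfsg.Lib.Misc.FourConnected Cfsg.Lib.BenderSE.FourConn

universe u

variable {G : Type u} [Group G]

/-- the centraliser of every involution has a normal 2-complement -/
def Hyp (G : Type u) [Group G] : Prop :=
  ∀ t : G, orderOf t = 2 → Cfsg.HasNormalPComplement 2 ↥(centralizer ({t} : Set G))

theorem order_two {x : G} (h : x * x = 1) (h1 : x ≠ 1) : orderOf x = 2 :=
  haveI : Fact (Nat.Prime 2) := ⟨Nat.prime_two⟩
  orderOf_eq_prime (by rw [pow_two]; exact h) h1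

theorem elementary_zpowers {a : G} (ha : a * a = 1) : Cfsg.IsElementaryAbelian 2 (zpowers a) := by
  refine ⟨inferInstance, fun x hx => ?_⟩
  obtain ⟨k, rfl⟩ := mem_zpowers_iff.1 hx
  rw [← zpow_natCast, ← zpow_mul, mul_comm, zpow_mul, zpow_natCast, pow_two, ha, one_zpow]

theorem elementary_conj (g : G) {E : Subgroup G} (hE : Cfsg.IsElementaryAbelian 2 E) :
    Cfsg.IsElementaryAbelian 2 (E.map (MulAut.conj g).toMonoidHom) := by
  haveI := hE.1
  refine ⟨inferInstance, ?_⟩
  rintro _ ⟨a, ha, rfl⟩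
  rw [← map_pow, hE.2 a ha, map_one]

theorem comm_of_elementary {E : Subgroup G} (hE : Cfsg.IsElementaryAbelian 2 E) {x y : G} (hx : x ∈ E)
    (hy : y ∈ E) : x * y = y * x :=
  haveI := hE.1
  congrArg Subtype.val (mul_comm' (⟨x, hx⟩ : E) ⟨y, hy⟩)

theorem sq_of_elementary {E : Subgroup G} (hE : Cfsg.IsElementaryAbelian 2 E) {x : G} (hx : x ∈ E) :
    x * x = 1 := by
  rw [← pow_two]; exact hE.2 x hx

variable [Finite G]

/-- an involution commuting with a four-subgroup and outside it gives an elementary subgroup of order eight -/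
theorem eight_adjoin {U : Subgroup G} (hU : IsKleinFour U) {a : G} (ha : a * a = 1) (haU : a ∉ U)
    (hc : ∀ u ∈ U, a * u = u * a) :
    Cfsg.IsElementaryAbelian 2 (U ⊔ zpowers a) ∧ 8 ≤ Nat.card ↥(U ⊔ zpowers a) := by
  haveI : Fact (Nat.Prime 2) := ⟨Nat.prime_two⟩
  have hE := Cfsg.Lib.Sft.elementary_sup (p := 2) (elementary_of_klein hU) (elementary_zpowers ha)
    (fun u hu x hx => by
      obtain ⟨k, rfl⟩ := mem_zpowers_iff.1 hx
      exact ((show Commute a u from hc u hu).zpow_left k).eq.symm)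
  refine ⟨hE, ?_⟩
  obtain ⟨j, hj⟩ := IsPGroup.iff_card.1 (isPGroup_elementary hE)
  by_contra h8
  have hj2 : j ≤ 2 := by
    by_contra h'
    exact h8 ((show (8 : ℕ) = 2 ^ 3 by norm_num).le.trans (hj ▸ Nat.pow_le_pow_right two_pos (by omega)))
  have h4 : Nat.card ↥(U ⊔ zpowers a) ≤ Nat.card U := by
    rw [hj, card_klein hU]; exact (Nat.pow_le_pow_right two_pos hj2).trans (by norm_num)
  exact haU ((eq_of_le_of_card_ge le_sup_left h4).ge (mem_sup_right (mem_zpowers a)))

section Centraliser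

variable (h : Hyp G) {t : G} (ht : orderOf t = 2)

include h ht

/-- a 2-subgroup of a centraliser moves into a given Sylow 2-subgroup of it under the core -/
theorem exists_core_conj_le (P : Sylow 2 ↥(centralizer ({t} : Set G))) {Q : Subgroup G}
    (hQC : Q ≤ centralizer ({t} : Set G)) (hQ : IsPGroup 2 Q) :
    ∃ w ∈ Cfsg.centralizerPPrimeCore 2 t, ∀ x ∈ Q,
      w * x * w⁻¹ ∈ (P : Subgroup ↥(centralizer ({t} : Set G))).map (centralizer ({t} : Set G)).subtype := by
  haveI : Fact (Nat.Prime 2) := ⟨Nat.prime_two⟩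
  let C := centralizer ({t} : Set G)
  obtain ⟨N, hN, hNP⟩ := Cfsg.Lib.Transfer.exists_complement_of_hasNormalPComplement (h t ht) P
  haveI := hN
  obtain ⟨R, hR⟩ := (hQ.comap_subtype (K := C)).exists_le_sylow
  obtain ⟨c, hc⟩ := MulAction.exists_smul_eq C P R
  obtain ⟨n, hn, p, hp', rfl⟩ := mem_sup_of_normal_left.1 (hNP.sup_eq_top.ge (mem_top c))
  refine ⟨(n : G)⁻¹, inv_mem ⟨n, le_pPrimeCore (Cfsg.Lib.Transfer.complement_props hNP).1 hn, rfl⟩,
    fun x hx => ?_⟩
  have hxR : (⟨x, hQC hx⟩ : C) ∈ (R : Subgroup C) := hR (show (⟨x, hQC hx⟩ : C) ∈ Q.subgroupOf C from hx)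
  rw [← hc] at hxR
  obtain ⟨s, hs, hse⟩ := hxR
  refine ⟨p * s * p⁻¹, mul_mem (mul_mem hp' hs) (inv_mem hp'), ?_⟩
  have h' : ((n * p : C) : G) * (s : G) * ((n * p : C) : G)⁻¹ = x := congrArg Subtype.val hse
  rw [Subgroup.coe_mul] at h'
  rw [← h']
  simp [mul_assoc]

theorem solvable_centralizer : Group.IsSolvable ↥(centralizer ({t} : Set G)) := by
  haveI : Fact (Nat.Prime 2) := ⟨Nat.prime_two⟩
  set C := centralizer ({t} : Set G)
  obtain ⟨N, hN, hc, k, hk⟩ := Cfsg.Lib.Transfer.hasNormalPComplement_iff.1 (h t ht)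
  haveI := hN
  haveI : Group.IsSolvable N := Cfsg.Agent.PF.isSolvable_of_odd _ (Nat.coprime_two_right.1 hc)
  haveI : Group.IsNilpotent (C ⧸ N) := (Cfsg.Lib.Transfer.isPGroup_quotient_of_index N hk).isNilpotent
  exact Group.isSolvable_of_ker_le_range N.subtype (QuotientGroup.mk' N)
    (by rw [QuotientGroup.ker_mk', range_subtype])

theorem isPGroup_quotient_core :
    IsPGroup 2 (↥(centralizer ({t} : Set G)) ⧸ Cfsg.oddCore ↥(centralizer ({t} : Set G))) := by
  haveI : Fact (Nat.Prime 2) := ⟨Nat.prime_two⟩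
  obtain ⟨N, hN, hc, k, hk⟩ := Cfsg.Lib.Transfer.hasNormalPComplement_iff.1 (h t ht)
  haveI := hN
  have hd := Subgroup.index_dvd_of_le (le_pPrimeCore hc : N ≤ Cfsg.oddCore _)
  rw [hk] at hd
  obtain ⟨j, -, hj⟩ := (Nat.dvd_prime_pow Nat.prime_two).1 hd
  exact Cfsg.Lib.Transfer.isPGroup_quotient_of_index _ hj

theorem balance_of_hyp {a : G} (ha : orderOf a = 2) (hat : a * t = t * a) :
    Cfsg.centralizerPPrimeCore 2 a ⊓ centralizer {t} ≤ Cfsg.centralizerPPrimeCore 2 t := by
  haveI : Fact (Nat.Prime 2) := ⟨Nat.prime_two⟩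
  haveI := solvable_centralizer h ht
  exact centralizerPPrimeCore_inf_centralizer_le
    (IsPGroup.of_card (n := 1) (by rw [pow_one, Nat.card_zpowers, ha])) hat

end Centraliser

/-- `U` is a four-subgroup of `S` normalised by `S` -/
structure NormFour (S U : Subgroup G) : Prop where
  klein : IsKleinFour U
  le : U ≤ S
  conj_mem : ∀ s ∈ S, ∀ u ∈ U, s * u * s⁻¹ ∈ U

theorem exists_normFour (h3 : ¬ Cfsg.PRankLE 2 2 G) (S : Sylow 2 G) :
    ∃ U : Subgroup G, NormFour (S : Subgroup G) U := by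
  haveI : Fact (Nat.Prime 2) := ⟨Nat.prime_two⟩
  obtain ⟨E, hES, hE, hE8⟩ := exists_eight S h3
  have hEp : IsPGroup 2 (E.subgroupOf (S : Subgroup G)) := S.2.to_subgroup _
  obtain ⟨E₁, hc⟩ := Sylow.exists_subgroup_card_pow_prime_of_le_card (n := 3) Nat.prime_two hEp
    (by rw [Nat.card_congr (subgroupOfEquivOfLe hES).toEquiv]; norm_num; exact hE8)
  obtain ⟨U, hUn, hU⟩ := Cfsg.Lib.PGroups.exists_normal_four S.2 (E₁.map (E.subgroupOf (S : Subgroup G)).subtype)
    (by rw [card_map_of_injective (Subgroup.subtype_injective _), hc]; norm_num)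
    (fun e he => Subtype.ext (sq_of_elementary hE (show (e : G) ∈ E from map_subtype_le (H := E.subgroupOf (S : Subgroup G)) _ he)))
  refine ⟨U.map (S : Subgroup G).subtype, klein_map (S : Subgroup G).subtype_injective hU, map_subtype_le _, ?_⟩
  rintro s hs _ ⟨u, hu, rfl⟩
  exact ⟨_, hUn.conj_mem u hu ⟨s, hs⟩, rfl⟩

namespace NormFour

variable {S U : Subgroup G} (hN : NormFour S U)

include hN

theorem frame (hS : IsPGroup 2 S) : ∃ z ∈ U, ∃ u ∈ U, z ≠ 1 ∧ z * z = 1 ∧ u ≠ 1 ∧ u ≠ z ∧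
    (∀ s ∈ S, s * z = z * s) ∧ (∀ s ∈ S, s * u * s⁻¹ = u ∨ s * u * s⁻¹ = z * u) ∧
    ∀ x ∈ U, x = 1 ∨ x = z ∨ x = u ∨ x = z * u := by
  classical
  haveI : Fact (Nat.Prime 2) := ⟨Nat.prime_two⟩
  haveI := hN.klein
  haveI : (U.subgroupOf S).Normal := ⟨fun x hx g => hN.conj_mem g g.2 x hx⟩
  have h4 := card_klein hN.klein
  have hne : U.subgroupOf S ≠ ⊥ := fun e => by
    have h1 := Nat.card_congr (subgroupOfEquivOfLe hN.le).toEquiv
    rw [e, card_bot, h4] at h1
    omega
  obtain ⟨⟨z, hzS⟩, hzU, hzc, hzo⟩ := Cfsg.Lib.PGroups.exists_mem_center_of_normal_ne_bot hS hne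
  rw [Subgroup.orderOf_mk] at hzo
  have hzU' : z ∈ U := hzU
  have hz1 := ne_one_of_two hzo
  obtain ⟨u, huU, hu⟩ : ∃ u ∈ U, u ∉ ({1, z} : Set G) := by
    by_contra hcon
    push Not at hcon
    have := Set.ncard_le_ncard (s := (U : Set G)) hcon (by simp)
    rw [← Nat.card_coe_set_eq, SetLike.coe_sort_coe, h4, Set.ncard_pair hz1.symm] at this
    omega
  simp only [Set.mem_insert_iff, Set.mem_singleton_iff, not_or] at hu
  have hzu1 : z * u ≠ 1 := fun e => hu.2 (mul_left_cancel (e.trans (sq_of_two hzo).symm))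
  have hall : ∀ x ∈ U, x = 1 ∨ x = z ∨ x = u ∨ x = z * u := by
    have hsub : ({1, z, u, z * u} : Set G) ⊆ U := by
      intro x hx
      simp only [Set.mem_insert_iff, Set.mem_singleton_iff] at hx
      rcases hx with rfl | rfl | rfl | rfl
      exacts [one_mem _, hzU', huU, mul_mem hzU' huU]
    have h4' : ({1, z, u, z * u} : Set G).ncard = 4 := by
      rw [Set.ncard_insert_of_notMem (by simp [hz1.symm, Ne.symm hu.1, Ne.symm hzu1]),
        Set.ncard_insert_of_notMem (by simp [Ne.symm hu.2, hu.1]),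
        Set.ncard_pair (by simp [hz1])]
    have heq := Set.eq_of_subset_of_ncard_le hsub
      (by rw [h4', ← Nat.card_coe_set_eq, SetLike.coe_sort_coe, h4]) (Set.toFinite _)
    intro x hx
    have := heq.ge hx
    simpa using this
  have hcen : ∀ s ∈ S, s * z = z * s := fun s hs => congrArg Subtype.val (mem_center_iff.1 hzc ⟨s, hs⟩)
  refine ⟨z, hzU', u, huU, hz1, sq_of_two hzo, hu.1, hu.2, hcen, fun s hs => ?_, hall⟩
  rcases hall _ (hN.conj_mem s hs u huU) with e | e | e | e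
  · exact absurd (conj_eq_one_iff.1 e) hu.1
  · refine absurd ?_ hu.2
    calc u = s⁻¹ * (s * u * s⁻¹) * s := by group
      _ = s⁻¹ * (z * s) := by rw [e, mul_assoc]
      _ = z := by rw [← hcen s hs, inv_mul_cancel_left]
  · exact Or.inl e
  · exact Or.inr e

/-- the centraliser of `U` has index at most two in `S` -/
theorem relIndex_le (hS : IsPGroup 2 S) : (centralizer (U : Set G)).relIndex S ≤ 2 := by
  obtain ⟨z, hzU, u, huU, -, hz2, -, -, hcen, hconj, hall⟩ := hN.frame hS
  have hmem : ∀ s ∈ S, s * u * s⁻¹ = u → s ∈ centralizer (U : Set G) := fun s hs e => by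
    refine mem_centralizer_iff.2 fun x hx => ?_
    have hu : Commute s u := mul_inv_eq_iff_eq_mul.1 e
    rcases hall x hx with rfl | rfl | rfl | rfl
    · rw [one_mul, mul_one]
    · exact (hcen s hs).symm
    · exact hu.eq.symm
    · exact ((show Commute s z from hcen s hs).mul_right hu).eq.symm
  set K := (centralizer (U : Set G)).subgroupOf S
  show K.index ≤ 2
  by_cases hK : ∀ s : S, s ∈ K
  · rw [(eq_top_iff' K).2 hK, index_top]; norm_num
  push Not at hK
  obtain ⟨a, ha⟩ := hK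
  have hau : ∀ b : S, b ∉ K → (b : G) * u * (b : G)⁻¹ = z * u := fun b hb =>
    (hconj b b.2).resolve_left fun e => hb (hmem b b.2 e)
  refine le_of_eq (index_eq_two_iff.2 ⟨a⁻¹, fun b => ?_⟩)
  by_cases hb : b ∈ K
  · exact Or.inr ⟨hb, fun h => ha (inv_mem_iff.1 ((mul_mem_cancel_left hb).1 h))⟩
  refine Or.inl ⟨?_, hb⟩
  show ((b * a⁻¹ : S) : G) ∈ centralizer (U : Set G)
  refine hmem _ (b * a⁻¹).2 ?_
  have h1 : (a : G)⁻¹ * (z * u) * (a : G) = u := by
    rw [← hau a ha]; group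
  have hzz : (a : G)⁻¹ * z * (a : G) = z := by
    rw [mul_assoc, ← hcen a a.2, inv_mul_cancel_left]
  calc ((b * a⁻¹ : S) : G) * u * ((b * a⁻¹ : S) : G)⁻¹
      = (b : G) * ((a : G)⁻¹ * u * (a : G)) * (b : G)⁻¹ := by
        simp [mul_assoc]
    _ = (b : G) * (z * u) * (b : G)⁻¹ := by
        congr 2
        calc (a : G)⁻¹ * u * (a : G)
            = (a : G)⁻¹ * (z * (z * u)) * (a : G) := by
              rw [← mul_assoc z z u, hz2, one_mul]
          _ = z * u := by
              rw [show (a : G)⁻¹ * (z * (z * u)) * (a : G) =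
                ((a : G)⁻¹ * z * (a : G)) * ((a : G)⁻¹ * (z * u) * (a : G)) by group, hzz, h1]
    _ = u := by
        rw [show (b : G) * (z * u) * (b : G)⁻¹ = ((b : G) * z * (b : G)⁻¹) * ((b : G) * u * (b : G)⁻¹) by group,
          hcen b b.2, mul_inv_cancel_right, hau b hb, ← mul_assoc]
        rw [hz2, one_mul]

theorem relIndex_le_of_le (hS : IsPGroup 2 S) {E : Subgroup G} (hE : E ≤ S) :
    Nat.card E ≤ 2 * Nat.card ↥(centralizer (U : Set G) ⊓ E : Subgroup G) := by
  have h1 := relIndex_mul_relIndex ⊥ (centralizer (U : Set G) ⊓ E) E bot_le inf_le_right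
  rw [relIndex_bot_left, relIndex_bot_left, inf_relIndex_right] at h1
  have h2 := (relIndex_le_of_le_right (H := centralizer (U : Set G)) hE Subgroup.index_ne_zero_of_finite).trans
    (hN.relIndex_le hS)
  rw [← h1, mul_comm]
  exact Nat.mul_le_mul_right _ h2

end NormFour

end Cfsg.Lib.TwoNilCent
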