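/-
In a group without subgroups of index two, of 2-rank at least three, in which the centralisers of involutions have
normal 2-complements, every involution of a Sylow 2-subgroup lies in an elementary subgroup of order eight of it.
-/
import Cfsg.Agent.TwoNilCent.Basic
import Cfsg.Agent.Transfer.ThompsonTransfer
import Cfsg.Agent.PGroups.MaxClass
import Cfsg.Agent.InvolCalc.CyclicNormalisers.Common

set_option autoImplicit false
set_option linter.unusedSectionVars false
set_option linter.style.haveILetI false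

namespace Cfsg.Lib.TwoNilCent

open Subgroup Cfsg.Lib.Components Cfsg.Lib.Misc.FourConnected Cfsg.Lib.BenderSE.FourConn

universe u

variable {G : Type u} [Group G] [Finite G]

/-- `a` lies in an elementary subgroup of order at least eight of `S` -/
def Good (S : Subgroup G) (a : G) : Prop :=
  ∃ E : Subgroup G, E ≤ S ∧ Cfsg.IsElementaryAbelian 2 E ∧ 8 ≤ Nat.card E ∧ a ∈ E

variable (h3 : ¬ Cfsg.PRankLE 2 2 G) (S : Sylow 2 G) {U : Subgroup G} (hU : NormFour (S : Subgroup G) U)

include h3 hU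

/-- the involutions of `C_S(U)` are good -/
theorem good_of_cen {a : G} (ha : orderOf a = 2) (haS : a ∈ (S : Subgroup G))
    (hc : a ∈ centralizer (U : Set G)) : Good (S : Subgroup G) a := by
  haveI : Fact (Nat.Prime 2) := ⟨Nat.prime_two⟩
  by_cases haU : a ∈ U
  · obtain ⟨E, hES, hE, hE8⟩ := exists_eight S h3
    by_cases hle : centralizer (U : Set G) ⊓ E ≤ U
    · have h1 := hU.relIndex_le_of_le S.2 hES
      have h4 := card_klein hU.klein
      have heq : centralizer (U : Set G) ⊓ E = U := eq_of_le_of_card_ge hle (by omega)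
      exact ⟨E, hES, hE, hE8, (heq.ge.trans inf_le_right) haU⟩
    · obtain ⟨e, he, heU⟩ := SetLike.not_le_iff_exists.1 hle
      obtain ⟨hA, hA8⟩ := eight_adjoin hU.klein (sq_of_elementary hE he.2) heU
        fun u hu => (mem_centralizer_iff.1 he.1 u hu).symm
      exact ⟨_, sup_le hU.le (zpowers_le.2 (hES he.2)), hA, hA8, mem_sup_left haU⟩
  · obtain ⟨hA, hA8⟩ := eight_adjoin hU.klein (sq_of_two ha) haU fun u hu => (mem_centralizer_iff.1 hc u hu).symm
    exact ⟨_, sup_le hU.le (zpowers_le.2 haS), hA, hA8, mem_sup_right (mem_zpowers a)⟩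

variable (hidx : ∀ M : Subgroup G, M.Normal → M.index ≠ 2)

include hidx

/-- by Thompson's transfer lemma every involution lies in an elementary subgroup of order eight -/
theorem exists_eight_mem {t : G} (ht : orderOf t = 2) :
    ∃ E : Subgroup G, Cfsg.IsElementaryAbelian 2 E ∧ 8 ≤ Nat.card E ∧ t ∈ E := by
  haveI : Fact (Nat.Prime 2) := ⟨Nat.prime_two⟩
  obtain ⟨g, hgS, hgC⟩ : ∃ g : G, g⁻¹ * t * g ∈ (S : Subgroup G) ∧ g⁻¹ * t * g ∈ centralizer (U : Set G) := by
    have h2 := hU.relIndex_le S.2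
    have h0 : (centralizer (U : Set G)).relIndex (S : Subgroup G) ≠ 0 := Subgroup.index_ne_zero_of_finite
    rcases Nat.lt_or_ge ((centralizer (U : Set G)).relIndex (S : Subgroup G)) 2 with h1 | h1
    · have hle : (S : Subgroup G) ≤ centralizer (U : Set G) := relIndex_eq_one.1 (by omega)
      obtain ⟨g, hg⟩ := Cfsg.Lib.CyclicNorm.exists_conj_mem S ht
      exact ⟨g⁻¹, by simpa using hg, hle (by simpa using hg)⟩
    · by_contra hcon
      push Not at hcon
      have hQ : (centralizer (U : Set G) ⊓ (S : Subgroup G)).index = 2 * (S : Subgroup G).index := by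
        rw [← relIndex_mul_index (inf_le_right : centralizer (U : Set G) ⊓ (S : Subgroup G) ≤ S),
          inf_relIndex_right]
        congr 1
        omega
      obtain ⟨M, hM, hMi, -⟩ := Cfsg.Lib.Transfer.exists_index_two_not_mem _
        (Nat.not_even_iff_odd.1 fun he => S.not_dvd_index he.two_dvd) hQ ht
        fun g hg => hcon g hg.2 hg.1
      exact hidx M hM hMi
  have ho : orderOf (g⁻¹ * t * g) = 2 := by
    rw [show g⁻¹ * t * g = MulAut.conj g⁻¹ t by simp, MulEquiv.orderOf_eq, ht]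
  obtain ⟨E, -, hE, hE8, hgE⟩ := good_of_cen h3 S hU ho hgS hgC
  refine ⟨E.map (MulAut.conj g).toMonoidHom, elementary_conj g hE, ?_, ⟨_, hgE, ?_⟩⟩
  · rwa [card_map_of_injective (MulAut.conj g).injective]
  · simp [mul_assoc]

omit hidx in
/-- a self-centralising four-subgroup excludes elementary subgroups of order eight -/
theorem false_of_four {A : Subgroup G} (hAS : A ≤ (S : Subgroup G)) (hA : Nat.card A = 4)
    (hc : ∀ s ∈ (S : Subgroup G), (∀ a ∈ A, a * s = s * a) → s ∈ A) (hab : IsMulCommutative A) : False := by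
  haveI : Fact (Nat.Prime 2) := ⟨Nat.prime_two⟩
  obtain ⟨E, hES, hE, hE8⟩ := exists_eight S h3
  haveI : Group.IsNilpotent (S : Subgroup G) := S.2.isNilpotent
  obtain ⟨n, hn⟩ := IsPGroup.iff_card.1 S.2
  have hn3 : 3 ≤ n := by
    refine (Nat.pow_le_pow_iff_right one_lt_two).1 ?_
    rw [← hn]
    exact hE8.trans (Nat.le_of_dvd Nat.card_pos (card_dvd_of_le hES))
  set A' := A.subgroupOf (S : Subgroup G) with hA'
  have hA'c : Nat.card A' = 2 ^ 2 := by rw [Nat.card_congr (subgroupOfEquivOfLe hAS).toEquiv, hA]; norm_num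
  have hcent : centralizer (A' : Set (S : Subgroup G)) = A' := by
    refine le_antisymm (fun (s : ↥(S : Subgroup G)) hs => hc s s.2 fun a ha => ?_) (fun x hx => mem_centralizer_iff.2 fun y hy => ?_)
    · exact congrArg Subtype.val (mem_centralizer_iff.1 hs ⟨a, hAS ha⟩ ha)
    · exact Subtype.ext (show (y : G) * (x : G) = (x : G) * (y : G) from
        congrArg (fun v : A => (v : G)) (hab.is_comm.comm (⟨(y : G), hy⟩ : A) ⟨(x : G), hx⟩))
  obtain ⟨K, hK, hKi⟩ := Cfsg.Lib.MaxClass.exists_cyclic_index_two n (S : Subgroup G) hn hn3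
    (Cfsg.Lib.MaxClass.of_self_centralizing n (S : Subgroup G) hn A' hA'c hcent)
  set F := E.subgroupOf (S : Subgroup G)
  have hF : 8 ≤ Nat.card F := by rw [Nat.card_congr (subgroupOfEquivOfLe hES).toEquiv]; exact hE8
  have hKF : Nat.card ↥(K ⊓ F) ≤ 2 := by
    haveI : IsCyclic ↥(K ⊓ F) := isCyclic_of_le (inf_le_left : K ⊓ F ≤ K)
    obtain ⟨g, hg⟩ := IsCyclic.exists_generator (α := ↥(K ⊓ F))
    rw [← orderOf_eq_card_of_forall_mem_zpowers hg]
    refine Nat.le_of_dvd two_pos (orderOf_dvd_of_pow_eq_one (Subtype.ext (Subtype.ext ?_)))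
    exact hE.2 _ g.2.2
  have h1 := relIndex_mul_relIndex ⊥ (K ⊓ F) F bot_le inf_le_right
  rw [relIndex_bot_left, relIndex_bot_left, inf_relIndex_right] at h1
  have h2 := relIndex_le_of_le_right (H := K) (le_top : F ≤ ⊤) Subgroup.index_ne_zero_of_finite
  rw [relIndex_top_right, hKi] at h2
  have := Nat.mul_le_mul hKF h2
  omega

variable (h : Hyp G)

include h

/-- every involution of `S` is good -/
theorem good_of_mem {b : G} (hb : orderOf b = 2) (hbS : b ∈ (S : Subgroup G)) : Good (S : Subgroup G) b := by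
  haveI : Fact (Nat.Prime 2) := ⟨Nat.prime_two⟩
  by_contra hbad
  obtain ⟨z, hzU, -, -, hz1, hzz, -, -, hcen, -, -⟩ := hU.frame S.2
  have hzS := hU.le hzU
  have hzC : z ∈ centralizer (U : Set G) := mem_centralizer_iff.2 fun u hu => hcen u (hU.le hu)
  have hbC : b ∉ centralizer (U : Set G) := fun hc => hbad (good_of_cen h3 S hU hb hbS hc)
  have hbb := sq_of_two hb
  have hb1 := ne_one_of_two hb
  have hbz : b ≠ z := fun e => hbC (e ▸ hzC)
  have hzb : Commute z b := (hcen b hbS).symm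
  set R := (S : Subgroup G) ⊓ centralizer ({b} : Set G) with hR
  have hbR : b ∈ R := ⟨hbS, mem_centralizer_singleton_iff.2 rfl⟩
  have hzR : z ∈ R := ⟨hzS, mem_centralizer_singleton_iff.2 hzb.eq⟩
  have hRcomm : ∀ x ∈ R, Commute x b := fun x hx => mem_centralizer_singleton_iff.1 hx.2
  -- involutions of `C_S(b) ∩ C(U)`
  have hinC : ∀ x ∈ R, x ∈ centralizer (U : Set G) → x * x = 1 → x = 1 ∨ x = z := by
    intro x hx hxC hxx
    by_contra hcon
    push Not at hcon
    obtain ⟨V, hV, hzV, hxV, hle⟩ := exists_klein hzz hxx hz1 hcon.1 hcon.2.symm (hcen x hx.1).symm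
    have hbV : b ∉ V := fun e => hbC (hle _ hzC hxC e)
    have hVb : ∀ v ∈ V, b * v = v * b := fun v hv =>
      (mem_centralizer_singleton_iff.1 (hle (centralizer ({b} : Set G)) hzR.2 hx.2 hv)).symm
    obtain ⟨hA, hA8⟩ := eight_adjoin hV hbb hbV hVb
    exact hbad ⟨_, sup_le (hle _ hzS hx.1) (zpowers_le.2 hbS), hA, hA8, mem_sup_right (mem_zpowers b)⟩
  have hrel := hU.relIndex_le S.2
  have hmul : ∀ x ∈ R, x ∉ centralizer (U : Set G) → ∀ y ∈ R, y ∉ centralizer (U : Set G) →
      x * y ∈ centralizer (U : Set G) := by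
    intro x hx hxC y hy hyC
    set K := (centralizer (U : Set G)).subgroupOf (S : Subgroup G) with hK
    have hK2 : K.index = 2 := by
      have hK' : K.index ≤ 2 := hrel
      have h0 : K.index ≠ 0 := Subgroup.index_ne_zero_of_finite
      have h1 : K.index ≠ 1 := fun e => hxC ((subgroupOf_eq_top.1 (index_eq_one.1 e)) hx.1)
      omega
    exact (mul_mem_iff_of_index_two hK2 (a := ⟨x, hx.1⟩) (b := ⟨y, hy.1⟩)).2 (iff_of_false hxC hyC)
  obtain ⟨W, hW, hbW, hzW, hWle⟩ := exists_klein hbb hzz hb1 hz1 hbz hzb.symm.eq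
  have hWR : W ≤ R := hWle R hbR hzR
  -- all involutions of `C_S(b)`
  have hinv : ∀ x ∈ R, x * x = 1 → x = 1 ∨ x = z ∨ x = b ∨ x = b * z := by
    intro x hx hxx
    by_cases hxC : x ∈ centralizer (U : Set G)
    · rcases hinC x hx hxC hxx with e | e
      exacts [Or.inl e, Or.inr (Or.inl e)]
    · have hsq : b * x * (b * x) = 1 := by
        rw [mul_assoc, ← mul_assoc x b x, (hRcomm x hx).eq, mul_assoc b x x, hxx, mul_one, hbb]
      rcases hinC (b * x) (mul_mem hbR hx) (hmul b hbR hbC x hx hxC) hsq with e | e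
      · exact Or.inr (Or.inr (Or.inl (by
          calc x = b * b * x := by rw [hbb, one_mul]
            _ = b := by rw [mul_assoc, e, mul_one])))
      · exact Or.inr (Or.inr (Or.inr (by
          calc x = b * b * x := by rw [hbb, one_mul]
            _ = b * z := by rw [mul_assoc, e])))
  have hinvW : ∀ x ∈ R, x * x = 1 → x ∈ W := by
    intro x hx hxx
    rcases hinv x hx hxx with rfl | rfl | rfl | rfl
    exacts [one_mem _, hzW, hbW, mul_mem hbW hzW]
  -- a Sylow 2-subgroup of `C(b)` is bigger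
  set Cb := centralizer ({b} : Set G)
  have hRp : IsPGroup 2 R := S.2.to_le inf_le_left
  obtain ⟨P, hP⟩ := (hRp.comap_subtype (K := Cb)).exists_le_sylow
  set P' := (P : Subgroup Cb).map Cb.subtype with hP'
  have hRP : R ≤ P' := fun x hx => ⟨⟨x, hx.2⟩, hP (show (⟨x, hx.2⟩ : Cb) ∈ R.subgroupOf Cb from hx), rfl⟩
  have hP'C : P' ≤ Cb := map_subtype_le _
  have hP'p : IsPGroup 2 P' := P.2.map _
  obtain ⟨y, hyP, hyR, hyN⟩ : ∃ y ∈ P', y ∉ R ∧ ∀ x ∈ R, y * x * y⁻¹ ∈ R := by
    obtain ⟨E, hE, hE8, hbE⟩ := exists_eight_mem h3 S hU hidx hb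
    obtain ⟨w, -, hw⟩ := exists_core_conj_le h hb P (Q := E)
      (fun e he => mem_centralizer_singleton_iff.2 (comm_of_elementary hE he hbE)) (isPGroup_elementary hE)
    have hne : R.subgroupOf P' ≠ ⊤ := by
      intro htop
      have hmap : E.map (MulAut.conj w).toMonoidHom ≤ W := by
        rintro _ ⟨e, he, rfl⟩
        refine hinvW _ (subgroupOf_eq_top.1 htop (hw e he)) ?_
        rw [← map_mul, sq_of_elementary hE he, map_one]
      have := card_le_of_le hmap
      rw [card_map_of_injective (MulAut.conj w).injective, card_klein hW] at this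
      omega
    haveI : Group.IsNilpotent P' := hP'p.isNilpotent
    obtain ⟨⟨y, hy⟩, hy1, hy2⟩ := SetLike.exists_of_lt
      (Group.normalizerCondition_of_isNilpotent (G := P') _ hne.lt_top)
    exact ⟨y, hy, hy2, fun x hx => (mem_normalizer_iff.1 hy1 ⟨x, hRP hx⟩).1 hx⟩
  have hyb : Commute y b := mem_centralizer_singleton_iff.1 (hP'C hyP)
  -- `y` moves `z`
  have hyz : y * z * y⁻¹ ≠ z := by
    intro e
    have hyz' : Commute y z := mul_inv_eq_iff_eq_mul.1 e
    have hzo := order_two hzz hz1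
    set Cz := centralizer ({z} : Set G)
    have hSC : (S : Subgroup G) ≤ Cz := fun s hs => mem_centralizer_singleton_iff.2 (hcen s hs)
    have hQC : R ⊔ zpowers y ≤ Cz :=
      sup_le (inf_le_left.trans hSC) (zpowers_le.2 (mem_centralizer_singleton_iff.2 hyz'.eq))
    have hQP : R ⊔ zpowers y ≤ P' := sup_le hRP (zpowers_le.2 hyP)
    obtain ⟨w, hw, hwQ⟩ := exists_core_conj_le h hzo (S.subtype hSC) hQC (hP'p.to_le hQP)
    have hwS : ∀ x ∈ R ⊔ zpowers y, w * x * w⁻¹ ∈ (S : Subgroup G) := fun x hx => by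
      obtain ⟨s, hs, hse⟩ := hwQ x hx
      rw [← hse]
      exact hs
    have hbQ : b ∈ R ⊔ zpowers y := mem_sup_left hbR
    have hn := mem_normalizer_iff.1 (centralizer_le_normalizer_centralizerPPrimeCore (p := 2) z (hQC hbQ)) w
    have hd : b⁻¹ * (w * b * w⁻¹) = 1 := by
      have hS' : b⁻¹ * (w * b * w⁻¹) ∈ (S : Subgroup G) := mul_mem (inv_mem hbS) (hwS b hbQ)
      have hT : b⁻¹ * (w * b * w⁻¹) ∈ Cfsg.centralizerPPrimeCore 2 z := by
        have hbi : b⁻¹ = b := inv_eq_of_mul_eq_one_right hbb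
        rw [show b⁻¹ * (w * b * w⁻¹) = (b * w * b⁻¹) * w⁻¹ by rw [hbi]; simp only [mul_assoc]]
        exact mul_mem (hn.1 hw) (inv_mem hw)
      have := coprime_pGroup_disjoint S.2 (centralizerPPrimeCore_card_coprime (p := 2) z)
      exact mem_bot.1 (this ▸ mem_inf.2 ⟨hS', hT⟩)
    have hwb : w * b * w⁻¹ = b := (inv_mul_eq_one.1 hd).symm
    have hmap : (R ⊔ zpowers y).map (MulAut.conj w).toMonoidHom ≤ R := by
      rintro _ ⟨x, hx, rfl⟩
      refine ⟨hwS x hx, mem_centralizer_singleton_iff.2 ?_⟩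
      show MulAut.conj w x * b = b * MulAut.conj w x
      have hxb : x * b = b * x := mem_centralizer_singleton_iff.1 ((hQP.trans hP'C) hx)
      have hwb' : MulAut.conj w b = b := hwb
      conv_lhs => rw [← hwb', ← map_mul, hxb, map_mul, hwb']
    have := card_le_of_le hmap
    rw [card_map_of_injective (MulAut.conj w).injective] at this
    exact hyR ((eq_of_le_of_card_ge le_sup_left this).ge (mem_sup_right (mem_zpowers y)))
  -- `C_S(b)` is a four-subgroup
  have hsq4 : ∀ x ∈ R, x * x * (x * x) = 1 → x * x = 1 := by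
    intro x hx h4
    by_contra hx2
    have hsqC : ∀ v ∈ R, v * v ∈ centralizer (U : Set G) := fun v hv =>
      (em (v ∈ centralizer (U : Set G))).elim (fun e => mul_mem e e) fun e => hmul v hv e v hv e
    have e1 := (hinC _ (mul_mem hx hx) (hsqC x hx) h4).resolve_left hx2
    have hx' := hyN x hx
    have e2 : (y * x * y⁻¹) * (y * x * y⁻¹) = y * (x * x) * y⁻¹ := by group
    rcases hinC _ (mul_mem hx' hx') (hsqC _ hx') (by rw [e2, e1]; rw [show y * z * y⁻¹ * (y * z * y⁻¹) =
        y * (z * z) * y⁻¹ by group, hzz, mul_one, mul_inv_cancel]) with e | e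
    · rw [e2, e1] at e
      exact hz1 (conj_eq_one_iff.1 e)
    · rw [e2, e1] at e
      exact hyz e
  have hsq : ∀ x ∈ R, x * x = 1 := by
    intro x hx
    obtain ⟨k, hk⟩ := IsPGroup.iff_orderOf.1 hRp ⟨x, hx⟩
    rw [Subgroup.orderOf_mk] at hk
    by_contra hx2
    have hk2 : 2 ≤ k := by
      by_contra hk'
      apply hx2
      rw [← pow_two]
      exact orderOf_dvd_iff_pow_eq_one.1 (hk ▸ (pow_dvd_pow 2 (show k ≤ 1 by omega)).trans (by norm_num))
    obtain ⟨j, rfl⟩ : ∃ j, k = j + 2 := ⟨k - 2, by omega⟩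
    have h4 := hsq4 (x ^ 2 ^ j) (pow_mem hx _) (by
      rw [← pow_add, ← pow_add, show 2 ^ j + 2 ^ j + (2 ^ j + 2 ^ j) = orderOf x by rw [hk]; ring,
        pow_orderOf_eq_one])
    rw [← pow_add] at h4
    have := Nat.le_of_dvd (by positivity) (orderOf_dvd_of_pow_eq_one h4)
    rw [hk, show 2 ^ (j + 2) = 2 ^ j * 4 by ring] at this
    have : 0 < 2 ^ j := by positivity
    omega
  have hRW : R = W := le_antisymm (fun x hx => hinvW x hx (hsq x hx)) hWR
  haveI := hW
  refine false_of_four h3 S hU (hWR.trans inf_le_left) (card_klein hW) (fun s hs hc => ?_)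
    (elementary_of_klein hW).1
  exact hRW ▸ (⟨hs, mem_centralizer_singleton_iff.2 (hc b hbW).symm⟩ : s ∈ R)

end Cfsg.Lib.TwoNilCent
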