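/-
A simple group of 2-rank at least three in which the centralisers of involutions have normal 2-complements:
all cores are trivial.
-/
import Cfsg.Agent.TwoNilCent.Good
import Cfsg.Agent.BenderSE.Final

set_option autoImplicit false
set_option linter.unusedSectionVars false
set_option linter.style.haveILetI false

namespace Cfsg.Lib.TwoNilCent

open Subgroup Cfsg.Lib.Components Cfsg.Lib.Sft Cfsg.Lib.Misc.FourConnected Cfsg.Lib.BenderSE.FourConn

universe u

variable {G : Type u} [Group G] [Finite G]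

local notation "θ" => Cfsg.centralizerPPrimeCore 2

theorem closure_conj (g : G) (E : Subgroup G) :
    closureOf θ (E.map (MulAut.conj g).toMonoidHom) = (closureOf θ E).map (MulAut.conj g).toMonoidHom := by
  rw [closureOf, closureOf, Subgroup.map_iSup]
  apply le_antisymm
  · refine iSup_le fun e => ?_
    obtain ⟨_, ⟨a, ha, rfl⟩, he1⟩ := e
    have ha1 : a ≠ 1 := fun h => he1 (by rw [h, map_one])
    refine (centralizerPPrimeCore_map_equiv (MulAut.conj g) a).ge.trans ?_
    exact le_iSup (fun e : {e : G // e ∈ E ∧ e ≠ 1} => (θ e.1).map (MulAut.conj g).toMonoidHom) ⟨a, ha, ha1⟩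
  · refine iSup_le fun e => ?_
    rw [centralizerPPrimeCore_map_equiv (MulAut.conj g) e.1]
    exact le_iSup (fun b : {b : G // b ∈ E.map (MulAut.conj g).toMonoidHom ∧ b ≠ 1} => θ b.1)
      ⟨MulAut.conj g e.1, ⟨e.1, e.2.1, rfl⟩, fun hh => e.2.2 ((MulAut.conj g).injective (by rw [hh, map_one]))⟩

theorem mem_conjMap_iff {g x : G} {W : Subgroup G} :
    x ∈ W.map (MulAut.conj g).toMonoidHom ↔ g⁻¹ * x * g ∈ W := Cfsg.Lib.StrongEmb.mem_conj_iff

variable (h : Hyp G)

include h

theorem closure_eight {A E : Subgroup G} (hA : Cfsg.IsElementaryAbelian 2 A) (hA8 : 8 ≤ Nat.card A)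
    (hEA : E ≤ A) (hE4 : 4 ≤ Nat.card E) : closureOf θ E = closureOf θ A :=
  closure_eq (fun Y hY => Cfsg.Agent.PF.isSolvable_of_odd Y hY)
    (fun _ _ ha hb hab => balance_of_hyp h hb ha hab) hA hA8 hEA hE4

theorem closure_adj {U V : Subgroup G} (hadj : Adj U V) : closureOf θ U = closureOf θ V :=
  closure_step (fun Y hY => Cfsg.Agent.PF.isSolvable_of_odd Y hY)
    (fun _ _ ha hb hab => balance_of_hyp h hb ha hab) hadj

theorem closure_normFour (S : Sylow 2 G) {U : Subgroup G} (hU : NormFour (S : Subgroup G) U) {E : Subgroup G}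
    (hES : E ≤ (S : Subgroup G)) (hE : Cfsg.IsElementaryAbelian 2 E) (hE8 : 8 ≤ Nat.card E) :
    closureOf θ E = closureOf θ U := by
  have h1 := hU.relIndex_le_of_le S.2 hES
  obtain ⟨V, hV, hVK⟩ := exists_klein_of_card (H := centralizer (U : Set G) ⊓ E)
    (fun x hx => sq_of_elementary hE hx.2) (fun x hx y hy => comm_of_elementary hE hx.2 hy.2) (by omega)
  rw [← closure_eight h hE hE8 (hVK.trans inf_le_right) (card_klein hV).ge]
  exact closure_adj h ⟨hV, hU.klein, fun v hv u hu => (mem_centralizer_iff.1 (hVK hv).1 u hu).symm⟩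

theorem odd_closure {E : Subgroup G} (hE : Cfsg.IsElementaryAbelian 2 E) (hE8 : 8 ≤ Nat.card E) :
    Odd (Nat.card ↥(closureOf θ E)) := by
  haveI : Fact (Nat.Prime 2) := ⟨Nat.prime_two⟩
  obtain ⟨X, hX, hle⟩ := exists_member (p := 2) hE hE8 (functor_of_equivariant
    (fun a _ => functor_conditions (fun Y hY => Cfsg.Agent.PF.isSolvable_of_odd Y hY) a)
    (fun a g _ => (centralizerPPrimeCore_map_equiv (MulAut.conj g) a).symm)
    (fun _ _ ha hb hab => balance_of_hyp h hb.1 ha.1 hab) hE hE8)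
  refine Nat.not_even_iff_odd.mp fun he => hX.2.1 ((even_iff_two_dvd.mp he).trans ?_)
  exact card_dvd_of_le (iSup_le fun e => hle e.1 e.2.1 e.2.2)

variable (h3 : ¬ Cfsg.PRankLE 2 2 G)

include h3

/-- elementary subgroups of order eight sharing an involution have the same closure -/
theorem closure_shared {E F : Subgroup G} (hE : Cfsg.IsElementaryAbelian 2 E) (hE8 : 8 ≤ Nat.card E)
    (hF : Cfsg.IsElementaryAbelian 2 F) (hF8 : 8 ≤ Nat.card F) {a : G} (ha1 : a ≠ 1) (haE : a ∈ E)
    (haF : a ∈ F) : closureOf θ E = closureOf θ F := by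
  haveI : Fact (Nat.Prime 2) := ⟨Nat.prime_two⟩
  have ha : orderOf a = 2 := order_two (sq_of_elementary hE haE) ha1
  set C := centralizer ({a} : Set G)
  have hEC : E ≤ C := fun x hx => mem_centralizer_singleton_iff.2 (comm_of_elementary hE hx haE)
  have hFC : F ≤ C := fun x hx => mem_centralizer_singleton_iff.2 (comm_of_elementary hF hx haF)
  obtain ⟨P, hP⟩ := ((isPGroup_elementary hE).comap_subtype (K := C)).exists_le_sylow
  obtain ⟨S, hS⟩ := (P.2.map C.subtype).exists_le_sylow
  obtain ⟨w, hw, hwF⟩ := exists_core_conj_le h ha P hFC (isPGroup_elementary hF)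
  obtain ⟨U, hU⟩ := exists_normFour h3 S
  have hES : E ≤ (S : Subgroup G) := fun x hx => hS ⟨⟨x, hEC hx⟩, hP hx, rfl⟩
  have hF' : F.map (MulAut.conj w).toMonoidHom ≤ (S : Subgroup G) := by
    rintro _ ⟨x, hx, rfl⟩
    exact hS (hwF x hx)
  have hwW : w ∈ closureOf θ F := (le_iSup (fun e : {e : G // e ∈ F ∧ e ≠ 1} => θ e.1) ⟨a, haF, ha1⟩) hw
  rw [closure_normFour h S hU hES hE hE8, ← closure_normFour h S hU hF' (elementary_conj w hF)
    (by rwa [card_map_of_injective (MulAut.conj w).injective]), closure_conj]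
  exact Cfsg.Lib.Transfer.map_conj_eq_self_iff.2 (le_normalizer hwW)

/-- **all cores are trivial** -/
theorem core_eq_bot [IsSimpleGroup G] (hna : ¬ IsMulCommutative G) {t : G} (ht : orderOf t = 2) :
    θ t = ⊥ := by
  haveI : Fact (Nat.Prime 2) := ⟨Nat.prime_two⟩
  obtain ⟨S⟩ : Nonempty (Sylow 2 G) := inferInstance
  obtain ⟨U, hU⟩ := exists_normFour h3 S
  have hidx : ∀ M : Subgroup G, M.Normal → M.index ≠ 2 := fun M hM e => Cfsg.Lib.CyclicNorm.no_index_two hna hM e
  set W := closureOf θ U with hWdef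
  obtain ⟨E₀, hE₀S, hE₀, hE₀8⟩ := exists_eight S h3
  have hWodd : Odd (Nat.card W) := by
    rw [hWdef, ← closure_normFour h S hU hE₀S hE₀ hE₀8]; exact odd_closure h hE₀ hE₀8
  by_cases hW : W = ⊥
  · obtain ⟨g, hg⟩ := Cfsg.Lib.CyclicNorm.exists_conj_mem S ht
    have hgo : orderOf (MulAut.conj g t) = 2 := by rw [MulEquiv.orderOf_eq, ht]
    obtain ⟨E, hES, hE, hE8, hgE⟩ := good_of_mem h3 S hU hidx h hgo hg
    have hle : θ (MulAut.conj g t) ≤ W := by
      rw [hWdef, ← closure_normFour h S hU hES hE hE8]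
      exact le_iSup (fun e : {e : G // e ∈ E ∧ e ≠ 1} => θ e.1) ⟨_, hgE, ne_one_of_two hgo⟩
    rw [hW, le_bot_iff, ← centralizerPPrimeCore_map_equiv (MulAut.conj g) t] at hle
    exact (map_eq_bot_iff_of_injective _ (MulAut.conj g).injective).1 hle
  set M := normalizer (W : Set G) with hM
  have heven : 2 ∣ Nat.card E₀ := by
    obtain ⟨j, hj⟩ := IsPGroup.iff_card.1 (isPGroup_elementary hE₀)
    rcases j with _ | j
    · rw [pow_zero] at hj; omega
    · exact ⟨2 ^ j, by rw [hj, pow_succ, mul_comm]⟩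
  have hSM : (S : Subgroup G) ≤ M := by
    intro s hs
    have hU' : U.map (MulAut.conj s).toMonoidHom = U :=
      eq_of_le_of_card_ge (by rintro _ ⟨u, hu, rfl⟩; exact hU.conj_mem s hs u hu)
        (card_map_of_injective (MulAut.conj s).injective).ge
    refine Cfsg.Lib.Transfer.map_conj_eq_self_iff.1 ?_
    rw [hWdef, ← closure_conj, hU']
  have htop : M ≠ ⊤ := by
    intro e
    haveI hn : W.Normal := normalizer_eq_top_iff.1 e
    rcases IsSimpleGroup.eq_bot_or_eq_top_of_normal W hn with e' | e'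
    · exact hW e'
    · rw [e', Subgroup.card_top] at hWodd
      exact (Nat.not_even_iff_odd.2 hWodd) (even_iff_two_dvd.2 (heven.trans (card_subgroup_dvd_card E₀)))
  -- every involution of the normaliser has an elementary subgroup of order eight with closure `W`
  have key : ∀ x ∈ M, orderOf x = 2 → ∃ E : Subgroup G, Cfsg.IsElementaryAbelian 2 E ∧ 8 ≤ Nat.card E ∧
      x ∈ E ∧ closureOf θ E = W := by
    intro x hx hxo
    obtain ⟨m, hm⟩ := Cfsg.Lib.CyclicNorm.exists_conj_mem (S.subtype hSM)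
      (v := (⟨x, hx⟩ : M)) (by rw [Subgroup.orderOf_mk, hxo])
    have hmS : (m : G) * x * (m : G)⁻¹ ∈ (S : Subgroup G) := hm
    have hmo : orderOf ((m : G) * x * (m : G)⁻¹) = 2 := (MulEquiv.orderOf_eq (MulAut.conj (m : G)) x).trans hxo
    obtain ⟨E, hES, hE, hE8, hmE⟩ := good_of_mem h3 S hU hidx h hmo hmS
    refine ⟨E.map (MulAut.conj (m : G)⁻¹).toMonoidHom, elementary_conj _ hE,
      by rwa [card_map_of_injective (MulAut.conj (m : G)⁻¹).injective],
      mem_conjMap_iff.2 (by simpa using hmE), ?_⟩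
    rw [closure_conj, closure_normFour h S hU hES hE hE8, ← hWdef]
    exact Cfsg.Lib.Transfer.map_conj_eq_self_iff.2 (inv_mem m.2)
  have hSE : Cfsg.IsStronglyEmbedded M := by
    refine ⟨htop, even_iff_two_dvd.2 ((heven.trans (card_dvd_of_le hE₀S)).trans (card_dvd_of_le hSM)),
      fun g hg => ?_⟩
    rw [← Nat.not_even_iff_odd]
    intro hev
    obtain ⟨x, hx, hxo⟩ := Cfsg.Lib.StrongEmb.exists_involution_of_even hev
    obtain ⟨hxM, y, hy, hyx⟩ := hx
    have hyo : orderOf y = 2 := by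
      rw [← hxo, ← hyx]; exact ((MulAut.conj g).orderOf_eq y).symm
    obtain ⟨E, hE, hE8, hxE, hEW⟩ := key x hxM hxo
    obtain ⟨F, hF, hF8, hyF, hFW⟩ := key y hy hyo
    have hshare := closure_shared h h3 hE hE8 (elementary_conj g hF)
      (by rwa [card_map_of_injective (MulAut.conj g).injective]) (ne_one_of_two hxo) hxE ⟨y, hyF, hyx⟩
    rw [closure_conj, hEW, hFW] at hshare
    exact hg (Cfsg.Lib.Transfer.map_conj_eq_self_iff.1 hshare.symm)
  refine core_eq_bot_of_embedded Cfsg.Lib.BenderSE.regProp hSE ?_ ?_ ht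
  · haveI := hU.klein
    obtain ⟨z, hz, u, hu, hz1, hzz, hu1, huz, -, -, -⟩ := hU.frame S.2
    exact ⟨z, u, order_two hzz hz1, order_two (sq_of_klein hu) hu1, huz.symm, comm_of_klein z hz u hu⟩
  · rcases IsSimpleGroup.eq_bot_or_eq_top_of_normal (Cfsg.oddCore G)
      (pPrimeCore_normal' 2) with e | e
    · exact e
    · have hc := coprime_card_pPrimeCore (G := G) 2
      rw [show Cfsg.pPrimeCore 2 G = ⊤ from e, Subgroup.card_top] at hc
      exact absurd (heven.trans (card_subgroup_dvd_card E₀))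
        (Nat.coprime_two_right.1 hc).not_two_dvd_nat

end Cfsg.Lib.TwoNilCent
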