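/-
Simple groups in which the centraliser of every involution has a normal 2-complement.
-/
import Cfsg.Agent.TwoNilCent.Cores
import Cfsg.Agent.S0516
import Cfsg.Agent.GWDihedral.Main
import Cfsg.Agent.GWDihedral.Consumers.QGroup.Consumers
import Cfsg.Agent.Lyons.Final
import Cfsg.Agent.Lyons.Consumers.Model
import Cfsg.Agent.CITGroups.Main
import Cfsg.Agent.SuzukiUnique.Zassenhaus
import Cfsg.Agent.Classical.Misc.SmallPSL
import Cfsg.Agent.SolvStruct.AltEight.Six
import Mathlib.FieldTheory.Finite.GaloisField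

set_option autoImplicit false
set_option linter.unusedSectionVars false
set_option linter.style.haveILetI false
set_option linter.unnecessarySeqFocus false

namespace Cfsg.Lib.TwoNilCent

open Subgroup Cfsg.Lib.Components Cfsg.Lib.Misc.FourConnected Cfsg.Lib.BenderSE.FourConn

universe u

variable (G : Type u) [Group G]

/-- the conclusion -/
def Conclusion : Prop :=
  (∃ (F : Type) (_ : Field F) (_ : Fintype F), 3 < Fintype.card F ∧
      Nonempty (G ≃* Matrix.ProjectiveSpecialLinearGroup (Fin 2) F)) ∨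
    Cfsg.Lie.IsoSuzuki G ∨ Nonempty (G ≃* ↥(alternatingGroup (Fin 7))) ∨
    (∃ (F : Type) (_ : Field F) (_ : Fintype F), Fintype.card F = 4 ∧
      Nonempty (G ≃* Matrix.ProjectiveSpecialLinearGroup (Fin 3) F))

variable {G} [Finite G] [IsSimpleGroup G]

theorem not_solvable (hna : ¬ IsMulCommutative G) : ¬ Group.IsSolvable G := fun hs =>
  hna ⟨⟨fun a b => IsSimpleGroup.comm_iff_isSolvable.2 hs a b⟩⟩

theorem of_trivial_cores (hna : ¬ IsMulCommutative G) (h : Hyp G)
    (hcore : ∀ t : G, orderOf t = 2 → Cfsg.centralizerPPrimeCore 2 t = ⊥) : Conclusion G := by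
  haveI : Fact (Nat.Prime 2) := ⟨Nat.prime_two⟩
  have hCIT : Cfsg.Lib.CITGroups.CIT G := fun t ht => by
    have hq := isPGroup_quotient_core h ht
    have h0 := hcore t ht
    rw [Cfsg.centralizerPPrimeCore, map_eq_bot_iff_of_injective _ (Subgroup.subtype_injective _)] at h0
    intro x
    obtain ⟨k, hk⟩ := hq (QuotientGroup.mk x)
    rw [← QuotientGroup.mk_pow, QuotientGroup.eq_one_iff, show Cfsg.oddCore _ = ⊥ from h0, mem_bot] at hk
    exact ⟨k, hk⟩
  rcases Cfsg.Lib.CITGroups.classification_of (Cfsg.Lie.IsoSuzuki G)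
    (fun M hZ => Cfsg.Lib.SuzukiUnique.zassenhaus_iso hZ) hCIT hna with ⟨F, i1, i2, -, ⟨e⟩⟩ | h2 | h2
  · refine Or.inl ⟨F, i1, i2, ?_, ⟨e⟩⟩
    by_contra hlt
    have h60 := Cfsg.Lib.SolvStruct.AltEight.sixty_le (not_solvable hna)
    have hc := Cfsg.Lib.Classical.SmallPSL.card_psl (F := F) rfl
    rw [Nat.card_congr e.toEquiv] at h60
    have hF : 1 < Fintype.card F := Fintype.one_lt_card
    interval_cases hq : Fintype.card F <;> simp_all <;> omega
  · exact Or.inr (Or.inr (Or.inr h2))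
  · exact Or.inr (Or.inl h2)

theorem rank_two (hna : ¬ IsMulCommutative G) (h : Hyp G) (h2 : Cfsg.PRankLE 2 2 G) : Conclusion G := by
  haveI : Fact (Nat.Prime 2) := ⟨Nat.prime_two⟩
  obtain ⟨S⟩ : Nonempty (Sylow 2 G) := inferInstance
  letI : Fintype (GaloisField 2 4) := Fintype.ofFinite _
  have hF : Fintype.card (GaloisField 2 4) = 16 := by
    rw [← Nat.card_eq_fintype_card, GaloisField.card 2 4 (by norm_num)]; norm_num
  obtain ⟨P⟩ : Nonempty (Sylow 2 (Cfsg.PSU 3 (GaloisField 2 4) 4)) := inferInstance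
  rcases Cfsg.Agent.S0516.result hna h2 S hF P with ⟨n, hn, he⟩ | hQ | hQ | ⟨⟨e⟩⟩
  · rcases Cfsg.Lib.GWD.dihedralProp G S n hn he with ⟨F, i1, i2, -, h5, hiso⟩ | h7
    · exact Or.inl ⟨F, i1, i2, by omega, hiso⟩
    · exact Or.inr (Or.inr (Or.inl h7))
  rotate_left 2
  · obtain ⟨M, hM⟩ := Cfsg.Lib.Lyons.lyonsProp G S
      ((Cfsg.Lib.Lyons.Consumers.uFour_psu hF P).of_equiv e)
    refine of_trivial_cores hna h fun t ht => core_eq_bot_of_embedded Cfsg.Lib.BenderSE.regProp hM ?_ ?_ ht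
    · -- two commuting involutions in the centre of the Sylow subgroup
      have hu := (Cfsg.Lib.Lyons.Consumers.uFour_psu hF P).of_equiv e
      set Z := Cfsg.Lib.BenderSE.Ring2.cenOf (S : Subgroup G)
      have hsq : ∀ x ∈ Z, x * x = 1 := fun x hx =>
        (hu.cen_iff x (Cfsg.Lib.BenderSE.Ring2.mem_cenOf.1 hx).1).2 hx
      obtain ⟨V, hV, hVZ⟩ := exists_klein_of_card (H := Z) hsq
        (fun x hx y hy => ((Cfsg.Lib.BenderSE.Ring2.mem_cenOf.1 hy).2 x (Cfsg.Lib.BenderSE.Ring2.mem_cenOf.1 hx).1))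
        (by rw [hu.card_cen]; norm_num)
      haveI := hV
      obtain ⟨a, ha, ha1⟩ : ∃ a ∈ V, a ≠ 1 := (V.ne_bot_iff_exists_ne_one.1 fun e' => by
        have := card_klein hV; rw [e', card_bot] at this; omega).elim fun a ha => ⟨a, a.2, fun e' => ha (Subtype.ext e')⟩
      obtain ⟨b, hb, hb'⟩ : ∃ b ∈ V, b ∉ ({1, a} : Set G) := by
        by_contra hcon
        push Not at hcon
        have := Set.ncard_le_ncard (s := (V : Set G)) hcon (by simp)
        rw [← Nat.card_coe_set_eq, SetLike.coe_sort_coe, card_klein hV, Set.ncard_pair (Ne.symm ha1)] at this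
        omega
      simp only [Set.mem_insert_iff, Set.mem_singleton_iff, not_or] at hb'
      exact ⟨a, b, order_two (sq_of_klein ha) ha1, order_two (sq_of_klein hb) hb'.1, Ne.symm hb'.2,
        comm_of_klein a ha b hb⟩
    · rcases IsSimpleGroup.eq_bot_or_eq_top_of_normal (Cfsg.oddCore G) (pPrimeCore_normal' 2) with e' | e'
      · exact e'
      · have hc := coprime_card_pPrimeCore (G := G) 2
        rw [show Cfsg.pPrimeCore 2 G = ⊤ from e', Subgroup.card_top] at hc
        exact absurd (Cfsg.Agent.PF.isSolvable_of_odd G (Nat.coprime_two_right.1 hc)) (not_solvable hna)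
  all_goals
    exfalso
    have hidx : ∀ H : Subgroup G, H.index ≠ 2 := fun H e =>
      Cfsg.Lib.CyclicNorm.no_index_two hna (normal_of_index_eq_two e) e
    have heven : 2 ∣ Nat.card G := by
      by_contra hodd
      exact not_solvable hna (Cfsg.Agent.PF.isSolvable_of_odd G (Nat.odd_iff.2 (Nat.two_dvd_ne_zero.1 hodd)))
    obtain ⟨t, ht⟩ := exists_prime_orderOf_dvd_card' 2 heven
    obtain ⟨F, i1, i2, -, ⟨e⟩⟩ := Cfsg.Lib.GWD.derived_centralizer Cfsg.Lib.GWD.dihedralProp S
      (by first | exact Or.inl hQ | exact Or.inr hQ) hidx t ht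
    obtain ⟨k, hk⟩ := IsPGroup.iff_card.1 (isPGroup_quotient_core h ht)
    have hdvd := (Subgroup.card_subgroup_dvd_card (commutator
      (↥(centralizer ({t} : Set G)) ⧸ Cfsg.oddCore ↥(centralizer ({t} : Set G)))))
    rw [Nat.card_congr e.toEquiv, hk, Cfsg.Lib.Classical.SLTwoTori.card_SL2] at hdvd
    have h3 : 3 ∣ Fintype.card F * (Fintype.card F ^ 2 - 1) := by
      generalize Fintype.card F = q
      rcases (show q % 3 = 0 ∨ q % 3 = 1 ∨ q % 3 = 2 by omega) with e' | e' | e'
      · exact dvd_mul_of_dvd_left (Nat.dvd_of_mod_eq_zero e') _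
      all_goals
        refine dvd_mul_of_dvd_right ?_ _
        have : q ^ 2 % 3 = 1 := by simp [Nat.pow_mod, e']
        omega
    exact absurd (Nat.prime_three.dvd_of_dvd_pow (h3.trans hdvd)) (by norm_num)

theorem main (hna : ¬ IsMulCommutative G) (h : Hyp G) : Conclusion G := by
  by_cases h2 : Cfsg.PRankLE 2 2 G
  · exact rank_two hna h h2
  · exact of_trivial_cores hna h fun _ ht => core_eq_bot h h2 hna ht

end Cfsg.Lib.TwoNilCent
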